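import Cfsg.Agent.LocalB.EqualDegree.Simple
import Cfsg.Agent.BlocksB.LocalSymm.Main

/-!
# The corner of a block with equal degrees and the centre of the block
-/

set_option autoImplicit false
set_option linter.style.haveILetI false
set_option linter.unusedSectionVars false

namespace CfsgLib.EqualDegree

open Cfsg Finset CfsgLib.Block CfsgLib.Block.Chr CfsgLib.BrauerPairs CfsgLib.BlockStar
  CfsgLib.BrauerBasis CfsgLib.Cyclic CfsgLib.LocalSymm Module MonoidAlgebra
open scoped ComplexConjugate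
open scoped Classical

universe u

variable {M : Ideal AlgInt} [M.IsPrime] {p : ℕ} [Fact p.Prime] [CharP (Residue M) p]
  {G : Type u} [Group G] [Fintype G] {B : Set (IrrCharacter G)}

local notation "𝕜" => Residue M
local notation "KG" => MonoidAlgebra (Residue M) G

/-- The reduction of a character as an element of the group algebra. -/
noncomputable def charElt (M : Ideal AlgInt) [M.IsPrime] (χ : IrrCharacter G) :
    MonoidAlgebra (Residue M) G :=
  redFun M fun g => (χ : G → ℂ) g⁻¹

theorem isClassFunction_inv (χ : IrrCharacter G) : IsClassFunction G fun g => (χ : G → ℂ) g⁻¹ :=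
  fun x g => by
    simp only [mul_inv_rev, inv_inv, ← mul_assoc]
    exact isClassFunction_irr χ x⁻¹ g

theorem mem_irr_inv (χ : IrrCharacter G) (g : G) : MemLocalRing M ((χ : G → ℂ) g⁻¹) :=
  memLocalRing_of_isIntegral (CfsgLib.Char.IsCharacter.isIntegral (isCharacter_irr χ) _)

theorem charElt_comm (χ : IrrCharacter G) (a : KG) : charElt M χ * a = a * charElt M χ :=
  (alg_commute le_rfl (suppIn_top a) (redFun_mem (isClassFunction_inv χ)).2).symm

theorem charElt_mul_idem (hB : IsPBlock M B) {χ : IrrCharacter G} (hχ : χ ∈ B) :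
    idem M B * charElt M χ = charElt M χ := by
  letI := irrFintype (G := G)
  rw [charElt, idem, ← redFun_conv (isIntClass_blockCoeff hB).2 (mem_irr_inv χ)]
  congr 1
  have hf := isClassFunction_inv χ
  have hb := isClassFunction_blockCoeff (G := G) B
  funext g
  rw [eq_sum_omega (isClassFunction_conv hb hf) g, eq_sum_omega hf g]
  congr 1
  refine sum_congr rfl fun ψ _ => ?_
  rw [omega_conv ψ hb, omega_blockCoeff]
  split_ifs with hψ
  · rw [one_mul]
  · have h0 : omega (ψ : G → ℂ) (fun g => (χ : G → ℂ) g⁻¹) = 0 := by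
      have h := classInner_irr ψ χ
      rw [if_neg (show ¬ ψ = χ from fun e => hψ (e ▸ hχ)), classInner] at h
      rw [omega, div_eq_zero_iff]
      left
      refine (mul_eq_zero.1 ?_).resolve_left
        (inv_ne_zero (Nat.cast_ne_zero (R := ℂ).2 (Nat.card_pos (α := G)).ne'))
      rw [← h]
      congr 1
      exact sum_congr rfl fun x _ => by rw [conj_irr]; ring
    rw [h0, zero_mul]

/-- Pairing with the character element is the reduced character value. -/
theorem coeffOne_charElt (χ : IrrCharacter G) (z : LA M G) :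
    coeffOne G 𝕜 (charElt M χ * redA z) = red M (cval (χ : G → ℂ) z) := by
  show (charElt M χ * redA z).coeff 1 = _
  rw [cval, red_sum _ fun g _ => memLocalRing_mul (z.coeff g).2
    (memLocalRing_of_isIntegral (CfsgLib.Char.IsCharacter.isIntegral (isCharacter_irr χ) _)),
    CfsgLib.BrauerPairs.coeff_mul]
  refine Fintype.sum_equiv (Equiv.inv G) _ _ fun g => ?_
  simp only [Equiv.inv_apply, mul_one, charElt, coeff_redFun, coeff_redA]
  rw [red_mul (z.coeff g⁻¹).2
    (memLocalRing_of_isIntegral (CfsgLib.Char.IsCharacter.isIntegral (isCharacter_irr χ) _)),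
    red_eq (z.coeff g⁻¹).2, mul_comm]

namespace Units

variable (U : Units M B)

/-- Membership of the corner. -/
def InA (a : KG) : Prop := U.i * a = a ∧ a * U.i = a

theorem inA_i : U.InA U.i := ⟨U.idem_i, U.idem_i⟩

theorem inA_mul {a c : KG} (ha : U.InA a) (hc : U.InA c) : U.InA (a * c) :=
  ⟨by rw [← mul_assoc, ha.1], by rw [mul_assoc, hc.2]⟩

theorem inA_mk (a : KG) : U.InA (U.i * a * U.i) :=
  ⟨by rw [← mul_assoc, ← mul_assoc, U.idem_i], by rw [mul_assoc, U.idem_i]⟩

/-- The data of a block with equal degrees. -/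
structure Good (U : Units M B) (e : LA M G) : Prop where
  eIdem : e * e = e
  eRed : redA e = U.i
  eVal : ∀ χ : IrrCharacter G, cval (χ : G → ℂ) e = if χ ∈ B then 1 else 0

variable {U} {e : LA M G} (E : Good U e)
include E

theorem Good.exists_corner_lift {a : KG} (ha : U.InA a) : ∃ z : LA M G, e * z * e = z ∧ redA z = a := by
  obtain ⟨z, hz, -⟩ := BlockStar.exists_liftA (M := M) (⊥ : Subgroup G) (fixBy_bot a)
  refine ⟨e * z * e, by rw [← mul_assoc, ← mul_assoc, E.eIdem, mul_assoc, E.eIdem], ?_⟩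
  rw [map_mul, map_mul, hz, E.eRed, ha.1, ha.2]

theorem Good.ht (χ : IrrCharacter G) : cval (χ : G → ℂ) e = 0 ∨ cval (χ : G → ℂ) e = 1 := by
  rw [E.eVal]
  split_ifs
  · exact Or.inr rfl
  · exact Or.inl rfl

/-- The corner is commutative. -/
theorem Good.comm {a c : KG} (ha : U.InA a) (hc : U.InA c) : a * c = c * a := by
  obtain ⟨z, hz, rfl⟩ := E.exists_corner_lift ha
  obtain ⟨w, hw, rfl⟩ := E.exists_corner_lift hc
  rw [← map_mul, ← map_mul]
  exact congrArg _ (eq_of_cval fun χ u => (cval_corner χ E.eIdem (E.ht χ) hz hw).2 u)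

/-- The residue map of the corner. -/
theorem Good.trace_mul (χ : IrrCharacter G) {a c : KG} (ha : U.InA a) (hc : U.InA c) :
    coeffOne G 𝕜 (charElt M χ * (a * c)) =
      coeffOne G 𝕜 (charElt M χ * a) * coeffOne G 𝕜 (charElt M χ * c) := by
  obtain ⟨z, hz, rfl⟩ := E.exists_corner_lift ha
  obtain ⟨w, hw, rfl⟩ := E.exists_corner_lift hc
  have hm : ∀ z : LA M G, MemLocalRing M (cval (χ : G → ℂ) z) := fun z =>
    memLocalRing_sum fun g _ => memLocalRing_mul (z.coeff g).2
      (memLocalRing_of_isIntegral (CfsgLib.Char.IsCharacter.isIntegral (isCharacter_irr χ) _))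
  rw [← map_mul, coeffOne_charElt, coeffOne_charElt, coeffOne_charElt,
    (cval_corner χ E.eIdem (E.ht χ) hz hw).1, red_mul (hm z) (hm w)]

theorem Good.trace_i {χ : IrrCharacter G} (hχ : χ ∈ B) :
    coeffOne G 𝕜 (charElt M χ * U.i) = 1 := by
  rw [← E.eRed, coeffOne_charElt, E.eVal, if_pos hχ, red_one]

theorem Good.nilpotent_of_trace {χ : IrrCharacter G} (hχ : χ ∈ B) {a : KG} (ha : U.InA a)
    (h0 : coeffOne G 𝕜 (charElt M χ * a) = 0) : IsNilpotent a := by
  refine (U.prim.nilpotent_or_inv 𝕜 ha.1 ha.2).resolve_right ?_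
  rintro ⟨w, h1, h2, h3, -⟩
  have h := E.trace_mul χ ha ⟨h1, h2⟩
  rw [h0, zero_mul, h3, E.trace_i hχ] at h
  exact one_ne_zero h

omit E in
/-- The trace form is nondegenerate on the corner. -/
theorem nondeg {a : KG} (ha : U.InA a) (h : ∀ c, U.InA c → coeffOne G 𝕜 (a * c) = 0) : a = 0 := by
  refine coeff_ext fun g => ?_
  have h' := h _ (U.inA_mk (MonoidAlgebra.single g⁻¹ 1))
  rw [← mul_assoc, ← mul_assoc, coeffOne_mul_comm, ← mul_assoc, ← mul_assoc, ha.1, ha.2] at h'
  have h'' : (a * MonoidAlgebra.single g⁻¹ 1).coeff 1 = 0 := h'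
  rw [MonoidAlgebra.coeff_mul_single_apply, mul_one, inv_inv, one_mul] at h''
  rw [h'', MonoidAlgebra.coeff_zero, Finsupp.zero_apply]

/-- The reduction of a member spans the socle of the corner. -/
theorem Good.socle {χ : IrrCharacter G} (hχ : χ ∈ B) {a : KG} (ha : U.InA a) (ha0 : a ≠ 0) :
    ∃ (c : KG) (r : 𝕜), U.InA c ∧ charElt M χ * U.i = r • (a * c) := by
  haveI : Module.Finite 𝕜 KG := Module.Finite.of_basis (MonoidAlgebra.basis G 𝕜)
  let σ : KG → 𝕜 := fun x => coeffOne G 𝕜 (charElt M χ * x)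
  let P : KG → Prop := fun y => y ≠ 0 ∧ ∃ c, U.InA c ∧ y = a * c
  let size : KG → ℕ := fun y =>
    finrank 𝕜 ((cornerSub 𝕜 U.i).map (LinearMap.mulLeft 𝕜 y))
  have hex : ∃ m, ∃ y, P y ∧ size y = m := ⟨_, a, ⟨ha0, U.i, U.inA_i, ha.2.symm⟩, rfl⟩
  obtain ⟨y, ⟨hy0, c, hc, hyc⟩, hys⟩ := Nat.find_spec hex
  have hyA : U.InA y := hyc ▸ U.inA_mul ha hc
  -- the minimal element is killed by the radical
  have hkill : ∀ r, U.InA r → σ r = 0 → y * r = 0 := by
    intro r hr h0
    by_contra hne
    have hPr : P (y * r) := ⟨hne, c * r, U.inA_mul hc hr, by rw [hyc, mul_assoc]⟩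
    have hle : (cornerSub 𝕜 U.i).map (LinearMap.mulLeft 𝕜 (y * r)) ≤
        (cornerSub 𝕜 U.i).map (LinearMap.mulLeft 𝕜 y) := by
      rintro _ ⟨x, hx, rfl⟩
      exact ⟨r * x, U.inA_mul hr hx, by simp [mul_assoc]⟩
    have hmin : size y ≤ size (y * r) := by
      rw [hys]; exact Nat.find_min' hex ⟨y * r, hPr, rfl⟩
    have heq := Submodule.eq_of_le_of_finrank_le hle hmin
    have hmem : y ∈ (cornerSub 𝕜 U.i).map (LinearMap.mulLeft 𝕜 y) :=
      ⟨U.i, U.inA_i, by simp [hyA.2]⟩
    rw [← heq] at hmem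
    obtain ⟨x, hx, hxe⟩ := hmem
    simp only [LinearMap.mulLeft_apply] at hxe
    have h1 : σ (r * x) = 0 := by
      show coeffOne G 𝕜 (charElt M χ * (r * x)) = 0
      rw [E.trace_mul χ hr hx]
      exact mul_eq_zero_of_left h0 _
    obtain ⟨N, hN⟩ := E.nilpotent_of_trace hχ (U.inA_mul hr hx) h1
    have hpow : ∀ k, y * (r * x) ^ k = y := fun k => by
      induction k with
      | zero => rw [pow_zero, mul_one]
      | succ k ih => rw [pow_succ, ← mul_assoc, ih, ← mul_assoc, hxe]
    exact hy0 (by rw [← hpow N, hN, mul_zero])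
  set t := coeffOne G 𝕜 y
  have hform : ∀ x, U.InA x → coeffOne G 𝕜 (y * x) = σ x * t := by
    intro x hx
    have h1 : y * (x - σ x • U.i) = 0 := by
      refine hkill _ ⟨?_, ?_⟩ ?_
      · rw [mul_sub, hx.1, mul_smul_comm, U.idem_i]
      · rw [sub_mul, hx.2, smul_mul_assoc, U.idem_i]
      · show coeffOne G 𝕜 (charElt M χ * (x - σ x • U.i)) = 0
        rw [mul_sub, map_sub, mul_smul_comm, map_smul, E.trace_i hχ, smul_eq_mul, mul_one, sub_self]
    rw [mul_sub, sub_eq_zero, mul_smul_comm, hyA.2] at h1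
    rw [h1, map_smul, smul_eq_mul]
  have hsi : U.InA (charElt M χ * U.i) := by
    refine ⟨?_, by rw [mul_assoc, U.idem_i]⟩
    rw [← mul_assoc, ← charElt_comm, mul_assoc, U.idem_i]
  have hy : y = t • (charElt M χ * U.i) := by
    refine sub_eq_zero.1 (nondeg (U := U) ?_ fun x hx => ?_)
    · exact ⟨by rw [mul_sub, hyA.1, mul_smul_comm, hsi.1],
        by rw [sub_mul, hyA.2, smul_mul_assoc, hsi.2]⟩
    · rw [sub_mul, map_sub, smul_mul_assoc, map_smul, hform x hx, mul_assoc, hx.1, smul_eq_mul,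
        mul_comm, sub_self]
  have ht : t ≠ 0 := fun h => hy0 (by rw [hy, h, zero_smul])
  exact ⟨c, t⁻¹, hc, by rw [← hyc, hy, smul_smul, inv_mul_cancel₀ ht, one_smul]⟩

/-- The dimension of the corner. -/
theorem Good.finrank_corner (hM : IsPModular p M) :
    finrank 𝕜 (cornerSub 𝕜 U.i) = Nat.card B := by
  letI := irrFintype (G := G)
  haveI : Fintype B := Fintype.ofFinite B
  apply Nat.cast_injective (R := ℂ)
  rw [finrank_cornerSub hM U.idem_i]
  have hval : ∀ χ : IrrCharacter G, val χ 1 1 U.i = if χ ∈ B then 1 else 0 := fun χ => by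
    rw [← E.eVal, val_eq hM χ (pElt_one (p := p)) E.eIdem
      (by rw [← MonoidAlgebra.one_def]; exact Commute.one_left e)
      (by rw [← MonoidAlgebra.one_def]; exact Commute.one_left e) U.idem_i (fixBy_one_one _)
      (by rw [E.eRed]), sval]
    simp [cval]
  simp only [hval, ite_pow, one_pow, ne_eq, OfNat.ofNat_ne_zero, not_false_eq_true,
    zero_pow]
  rw [sum_boole, Nat.card_eq_fintype_card, Fintype.card_subtype]

/-- A central element of the block is determined by its corner. -/
theorem Good.finrank_central_le (hM : IsPModular p M) (hB : IsPBlock M B) (W : Submodule 𝕜 KG)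
    (hc : ∀ z ∈ W, ∀ a : KG, z * a = a * z) (hb : ∀ z ∈ W, idem M B * z = z) :
    finrank 𝕜 W ≤ Nat.card B := by
  haveI : Module.Finite 𝕜 KG := Module.Finite.of_basis (MonoidAlgebra.basis G 𝕜)
  let f : W →ₗ[𝕜] cornerSub 𝕜 U.i :=
    { toFun := fun z => ⟨z.1 * U.i, by
        rw [← mul_assoc, ← hc _ z.2, mul_assoc, U.idem_i], by rw [mul_assoc, U.idem_i]⟩
      map_add' := fun a c => Subtype.ext (add_mul _ _ _)
      map_smul' := fun r a => Subtype.ext (smul_mul_assoc _ _ _) }
  have hf : Function.Injective f := by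
    rw [← LinearMap.ker_eq_bot, LinearMap.ker_eq_bot']
    intro z hz
    have h0 : z.1 * U.i = 0 := congrArg Subtype.val hz
    refine Subtype.ext ?_
    calc z.1 = z.1 * idem M B := by rw [hc _ z.2, hb _ z.2]
      _ = ∑ l, U.x l * (z.1 * U.i) * U.y l := by
        rw [← U.sum_xy, mul_sum]
        refine sum_congr rfl fun l _ => ?_
        conv_lhs => rw [← (U.xy l).2.2.2.1]
        rw [← mul_assoc, ← mul_assoc, hc _ z.2 (U.x l), mul_assoc (U.x l)]
      _ = 0 := by simp [h0]
  exact (LinearMap.finrank_le_finrank_of_injective hf).trans (E.finrank_corner hM).le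

omit E in
/-- The central element of a corner element. -/
noncomputable def cLift (U : Units M B) : KG →ₗ[𝕜] KG where
  toFun c := ∑ l, U.x l * c * U.y l
  map_add' a c := by simp only [mul_add, add_mul, sum_add_distrib]
  map_smul' r a := by simp only [mul_smul_comm, smul_mul_assoc, smul_sum, RingHom.id_apply]

omit E in
theorem cLift_apply (c : KG) : U.cLift c = ∑ l, U.x l * c * U.y l := rfl

omit E in
theorem lift_mul {a c : KG} (ha : U.InA a) (hc : U.InA c) :
    U.cLift a * U.cLift c = U.cLift (a * c) := by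
  simp only [cLift_apply, sum_mul, mul_sum]
  refine sum_congr rfl fun l _ => ?_
  rw [sum_eq_single l]
  · calc U.x l * a * U.y l * (U.x l * c * U.y l) = U.x l * a * (U.y l * U.x l) * c * U.y l := by
          simp only [mul_assoc]
      _ = _ := by rw [U.yx, if_pos rfl, mul_assoc (U.x l) a, ha.2, mul_assoc (U.x l) a]
  · intro m _ hm
    calc U.x m * a * U.y m * (U.x l * c * U.y l) = U.x m * a * (U.y m * U.x l) * c * U.y l := by
          simp only [mul_assoc]
      _ = 0 := by rw [U.yx, if_neg hm, mul_zero, zero_mul, zero_mul]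
  · exact fun h => absurd (mem_univ l) h

omit E in
theorem idem_lift (hM : IsPModular p M) (hB : IsPBlock M B) (c : KG) :
    idem M B * U.cLift c = U.cLift c := by
  rw [cLift_apply, mul_sum]
  exact sum_congr rfl fun l _ => by rw [← mul_assoc, ← mul_assoc, U.bx hM hB]

theorem Good.lift_central (hM : IsPModular p M) (hB : IsPBlock M B) {c : KG} (hc : U.InA c)
    (a : KG) : U.cLift c * a = a * U.cLift c := by
  have hbc : ∀ a : KG, idem M B * a = a * idem M B := LocalSymm.idem_central hM hB
  symm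
  calc a * U.cLift c = ∑ l, idem M B * (a * U.x l) * (c * U.y l) := by
        rw [cLift_apply, mul_sum]
        refine sum_congr rfl fun l _ => ?_
        rw [← mul_assoc (idem M B) a, hbc a, mul_assoc a, U.bx hM hB]
        simp only [mul_assoc]
    _ = ∑ l, ∑ m, U.x m * (U.y m * a * U.x l * c) * U.y l := by
        refine sum_congr rfl fun l _ => ?_
        rw [← U.sum_xy, sum_mul, sum_mul]
        exact sum_congr rfl fun m _ => by simp only [mul_assoc]
    _ = ∑ m, U.x m * c * (U.y m * a) * idem M B := by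
        rw [sum_comm]
        refine sum_congr rfl fun m _ => ?_
        rw [← U.sum_xy, mul_sum]
        refine sum_congr rfl fun l _ => ?_
        rw [E.comm ⟨by simp only [← mul_assoc, (U.xy m).2.2.2.2.1],
          by rw [mul_assoc, (U.xy l).2.2.2.1]⟩ hc]
        simp only [mul_assoc]
    _ = idem M B * (U.cLift c * a) := by
        rw [hbc, cLift_apply, sum_mul, sum_mul]
        simp only [mul_assoc]
    _ = U.cLift c * a := by rw [← mul_assoc, U.idem_lift hM hB]

theorem Good.lift_mul_i (hM : IsPModular p M) (hB : IsPBlock M B) {c : KG} (hc : U.InA c) :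
    U.cLift c * U.i = c := by
  calc U.cLift c * U.i = ∑ l, U.x l * (c * (U.y l * U.i)) := by
        simp only [cLift_apply, sum_mul, mul_assoc]
    _ = ∑ l, U.x l * U.y l * U.i * c := sum_congr rfl fun l _ => by
        rw [E.comm hc ⟨by rw [← mul_assoc, (U.xy l).2.2.2.2.1], by rw [mul_assoc, U.idem_i]⟩]
        simp only [mul_assoc]
    _ = idem M B * U.i * c := by rw [← sum_mul, ← sum_mul, U.sum_xy]
    _ = c := by rw [U.bi, hc.1]

omit E in
theorem lift_charElt (hB : IsPBlock M B) {χ : IrrCharacter G} (hχ : χ ∈ B) :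
    U.cLift (charElt M χ * U.i) = charElt M χ := by
  rw [cLift_apply]
  calc ∑ l, U.x l * (charElt M χ * U.i) * U.y l = ∑ l, U.x l * U.y l * charElt M χ := by
        refine sum_congr rfl fun l _ => ?_
        rw [charElt_comm χ U.i, ← mul_assoc, (U.xy l).2.2.2.1, mul_assoc, charElt_comm χ (U.y l),
          ← mul_assoc]
    _ = charElt M χ := by rw [← sum_mul, U.sum_xy, charElt_mul_idem hB hχ]

end Units

/-- A block with equal degrees has matrix units with a good lift. -/
theorem exists_good (hM : IsPModular p M) (hB : IsPBlock M B)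
    (h0 : ∀ χ ∈ B, blockHeight p B ((χ : IrrCharacter G) : G → ℂ) = 0) {d₀ : ℕ}
    (hd : ∀ χ ∈ B, charDegree ((χ : IrrCharacter G) : G → ℂ) = d₀) :
    ∃ (U : Units M B) (e : LA M G), U.Good e := by
  obtain ⟨hl, hreg⟩ := regPart_eq_bset hM hB h0 hd
  obtain ⟨U⟩ := exists_units hM hB hl
  obtain ⟨e, h1, h2, h3⟩ := U.exists_good_lift hM hB hreg hl hd
  exact ⟨U, e, h1, h2, h3⟩

end CfsgLib.EqualDegree
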