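import Cfsg.Agent.Blocks.Decomposition
import Cfsg.Agent.Blocks.BrauerFeit
import Cfsg.Agent.BlocksB.RankOne

/-!
# Blocks in which all characters have the same degree

Such a block has one simple module and all its decomposition numbers are one.
-/

set_option autoImplicit false
set_option linter.style.haveILetI false
set_option linter.unusedSectionVars false

namespace CfsgLib.EqualDegree

open Cfsg Finset CfsgLib.Block CfsgLib.Block.Chr CfsgLib.BrauerPairs CfsgLib.BlockStar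
  CfsgLib.BrauerBasis CfsgLib.BlockB
open scoped Classical

universe u

variable {M : Ideal AlgInt} [M.IsPrime] {p : ℕ} [Fact p.Prime] [CharP (Residue M) p]
  {G : Type u} [Group G] [Fintype G] {B : Set (IrrCharacter G)}

/-- The regular parts of the members are all equal to the one Brauer character of the block. -/
theorem regPart_eq_bset (hM : IsPModular p M) (hB : IsPBlock M B)
    (h0 : ∀ χ ∈ B, blockHeight p B ((χ : IrrCharacter G) : G → ℂ) = 0) {d₀ : ℕ}
    (hd : ∀ χ ∈ B, charDegree ((χ : IrrCharacter G) : G → ℂ) = d₀) :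
    blockRank p B = 1 ∧ ∀ χ ∈ B, ∀ β ∈ bsetB p M B, regPart p ((χ : IrrCharacter G) : G → ℂ) = β := by
  letI := irrFintype (G := G)
  haveI : Fintype (bsetB p M B) := (finite_bsetB hM B).fintype
  haveI : Fintype B := Fintype.ofFinite B
  have hfin : ∀ (F : IrrCharacter G → ℂ), ∑ᶠ ψ ∈ B, F ψ = ∑ ψ ∈ univ.filter (· ∈ B), F ψ := fun F =>
    finsum_mem_eq_sum_of_inter_support_eq (t := univ.filter (· ∈ B)) _ (by ext; simp)
  have hone : ¬ p ∣ orderOf (1 : G) := by rw [orderOf_one]; exact hM.1.not_dvd_one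
  obtain ⟨χ₀, hχ₀⟩ := exists_mem_block hB
  have hd0 : 0 < d₀ := hd χ₀ hχ₀ ▸ (irr_one χ₀).2
  have hdeg : ∀ χ ∈ B, regPart p ((χ : IrrCharacter G) : G → ℂ) 1 = (d₀ : ℂ) := fun χ hχ => by
    rw [regPart_of_not_dvd hone, (irr_one χ).1, hd χ hχ]
  obtain ⟨d, hdec, hvan⟩ := exists_decomposition hM hB
  -- the degrees of the Brauer characters
  choose n hn using fun β : bsetB p M B => exists_int_combination hM hB β.2
  let c : bsetB p M B → ℤ := fun β => ∑ ψ ∈ univ.filter (· ∈ B), n β ψ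
  have hc : ∀ β : bsetB p M B, (β : G → ℂ) 1 = (d₀ : ℂ) * (c β : ℂ) := fun β => by
    rw [hn β 1 hone, hfin]
    simp only [c]
    push_cast
    rw [mul_sum]
    exact sum_congr rfl fun ψ hψ => by
      rw [(irr_one ψ).1, hd ψ (mem_filter.1 hψ).2]; ring
  have hcpos : ∀ β : bsetB p M B, 1 ≤ c β := fun β => by
    obtain ⟨m, hm, -, hf⟩ := β.2
    haveI := finiteDimensional_quot (M := M) m
    haveI : IsSimpleModule (MonoidAlgebra (Residue M) G) (MonoidAlgebra (Residue M) G ⧸ m) :=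
      isSimpleModule_iff_isCoatom.2 hm
    haveI := IsSimpleModule.nontrivial (MonoidAlgebra (Residue M) G)
      (MonoidAlgebra (Residue M) G ⧸ m)
    have h1 := hc β
    rw [← hf, BrauerBasis.bchar_one hM] at h1
    have h2 : ((Module.finrank (Residue M) (MonoidAlgebra (Residue M) G ⧸ m) : ℕ) : ℤ) =
        (d₀ : ℤ) * c β := by exact_mod_cast h1
    have h3 : 0 < Module.finrank (Residue M) (MonoidAlgebra (Residue M) G ⧸ m) :=
      Module.finrank_pos
    by_contra hlt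
    have h4 : (d₀ : ℤ) * c β ≤ 0 := by nlinarith
    omega
  have hsum : ∀ χ ∈ B, ∑ β : bsetB p M B, (d χ β : ℤ) * c β = 1 := fun χ hχ => by
    have h1 := congrFun (hdec χ hχ) 1
    rw [hdeg χ hχ, Finset.sum_apply] at h1
    simp only [Pi.smul_apply, smul_eq_mul, hc] at h1
    have h2 : (d₀ : ℂ) * ((∑ β : bsetB p M B, (d χ β : ℤ) * c β : ℤ) : ℂ) = (d₀ : ℂ) * 1 := by
      rw [mul_one]
      push_cast
      rw [mul_sum]
      conv_rhs => rw [h1]
      exact sum_congr rfl fun β _ => by ring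
    exact_mod_cast mul_left_cancel₀ (Nat.cast_ne_zero.2 hd0.ne') h2
  -- each member has exactly one constituent
  have huniq : ∀ χ ∈ B, ∃ β : bsetB p M B, ∀ γ, d χ γ = if γ = β then 1 else 0 := fun χ hχ => by
    have hle : ∀ γ, (d χ γ : ℤ) ≤ (d χ γ : ℤ) * c γ := fun γ =>
      le_mul_of_one_le_right (Int.natCast_nonneg _) (hcpos γ)
    have h1 : (∑ γ : bsetB p M B, d χ γ : ℕ) ≤ 1 := by
      have h2 := (sum_le_sum fun γ (_ : γ ∈ univ) => hle γ).trans_eq (hsum χ hχ)
      exact_mod_cast h2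
    obtain ⟨β, hβ⟩ : ∃ β, d χ β ≠ 0 := by
      by_contra h
      simp only [not_exists, not_not] at h
      have h2 := hsum χ hχ
      rw [sum_eq_zero fun γ _ => by rw [h γ]; simp] at h2
      omega
    refine ⟨β, fun γ => ?_⟩
    split_ifs with h
    · subst h
      have := single_le_sum (fun γ _ => Nat.zero_le (d χ γ)) (mem_univ γ)
      omega
    · by_contra hγ
      have h2 := sum_le_sum_of_subset (f := fun γ => d χ γ) (subset_univ ({β, γ} : Finset _))
      rw [sum_pair (Ne.symm h)] at h2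
      omega
  haveI : Nonempty (bsetB p M B) := ⟨(huniq χ₀ hχ₀).choose⟩
  choose! β₀ hβ₀ using huniq
  have hreg : ∀ χ ∈ B, regPart p ((χ : IrrCharacter G) : G → ℂ) = (β₀ χ : G → ℂ) := fun χ hχ => by
    rw [hdec χ hχ, sum_eq_single (β₀ χ) (fun γ _ hne => by rw [hβ₀ χ hχ, if_neg hne]; simp)
      (fun h => absurd (mem_univ _) h), hβ₀ χ hχ, if_pos rfl]
    simp
  -- only one of them occurs
  have hsame : ∀ χ ∈ B, ∀ ψ ∈ B, β₀ χ = β₀ ψ := by
    intro χ hχ ψ hψ
    by_contra hne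
    set β := β₀ χ
    set S := (univ.filter fun ξ : IrrCharacter G => ξ ∈ B ∧ β₀ ξ = β) with hS
    have hSum : ∀ x : G, ∑ ξ ∈ univ.filter (· ∈ B), (d ξ β : ℂ) * (ξ : G → ℂ) x =
        ∑ ξ ∈ S, (ξ : G → ℂ) x := fun x => by
      rw [hS, ← filter_filter, sum_filter (p := fun ξ => β₀ ξ = β)]
      refine sum_congr rfl fun ξ hξ => ?_
      rw [hβ₀ ξ (mem_filter.1 hξ).2]
      by_cases he : β₀ ξ = β
      · rw [if_pos he, if_pos he.symm, Nat.cast_one, one_mul]
      · rw [if_neg he, if_neg (Ne.symm he), Nat.cast_zero, zero_mul]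
    have hR : ∀ x : G, (S.card : ℂ) * regPart p ((χ : IrrCharacter G) : G → ℂ) x =
        ∑ ξ ∈ S, (ξ : G → ℂ) x := fun x => by
      by_cases hx : p ∣ orderOf x
      · rw [regPart_of_dvd hx, mul_zero, ← hSum, ← hfin, hvan β x hx]
      · have hx' : ∀ ξ ∈ S, ((ξ : IrrCharacter G) : G → ℂ) x =
            regPart p ((χ : IrrCharacter G) : G → ℂ) x := fun ξ hξ => by
          rw [hreg χ hχ, show β₀ χ = β₀ ξ from (mem_filter.1 hξ).2.2.symm,
            ← hreg ξ (mem_filter.1 hξ).2.1, regPart_of_not_dvd hx]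
        rw [sum_congr rfl hx', sum_const, nsmul_eq_mul]
    have hzero : classInner (regPart p ((χ : IrrCharacter G) : G → ℂ)) (ψ : G → ℂ) = 0 := by
      have hcard : (S.card : ℂ) ≠ 0 :=
        Nat.cast_ne_zero.2 (card_ne_zero_of_mem (mem_filter.2 ⟨mem_univ χ, hχ, rfl⟩ : χ ∈ S))
      refine (mul_eq_zero.1 ?_).resolve_left hcard
      calc (S.card : ℂ) * classInner (regPart p ((χ : IrrCharacter G) : G → ℂ)) (ψ : G → ℂ)
          = ∑ ξ ∈ S, classInner (ξ : G → ℂ) (ψ : G → ℂ) := by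
            simp only [classInner, mul_sum]
            rw [sum_comm]
            refine sum_congr rfl fun g _ => ?_
            rw [← mul_sum, ← Finset.sum_mul, ← hR]
            ring
        _ = 0 := sum_eq_zero fun ξ hξ => by
          rw [classInner_irr, if_neg]
          intro he
          exact hne (he ▸ (mem_filter.1 hξ).2.2).symm
    have h1 := regInt_spec (p := p) χ ψ
    rw [hzero, mul_zero, Int.cast_eq_zero] at h1
    exact regInt_ne_zero hM hB hχ hψ (h0 χ hχ) h1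
  -- so the basis is one character
  have hall : ∀ β : bsetB p M B, β = β₀ χ₀ := fun β => by
    refine Subtype.ext ?_
    refine Set.mem_singleton_iff.1 (mem_of_mem_span hM
      (Set.singleton_subset_iff.2 (bsetB_subset B (β₀ χ₀).2)) (bsetB_subset B β.2) ?_)
    have h : (β : G → ℂ) ∈ Submodule.span ℂ (bsetB p M B) := Submodule.subset_span β.2
    rw [span_bsetB hM hB] at h
    refine Submodule.span_mono ?_ h
    rintro _ ⟨φ, hφ, rfl⟩
    exact Set.mem_singleton_iff.2 ((hreg φ hφ).trans (by rw [hsame φ hφ χ₀ hχ₀]))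
  refine ⟨?_, fun χ hχ β hβ => ?_⟩
  · rw [← card_bsetB hM hB, Fintype.card_eq_one_iff]
    exact ⟨β₀ χ₀, hall⟩
  · rw [hreg χ hχ, hsame χ hχ χ₀ hχ₀, ← hall ⟨β, hβ⟩]

/-- There are as many members as elements in a defect group. -/
theorem card_eq_pow (hM : IsPModular p M) (hB : IsPBlock M B)
    (h0 : ∀ χ ∈ B, blockHeight p B ((χ : IrrCharacter G) : G → ℂ) = 0) {d₀ : ℕ}
    (hd : ∀ χ ∈ B, charDegree ((χ : IrrCharacter G) : G → ℂ) = d₀) :
    Nat.card B = p ^ blockDefect p B := by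
  letI := irrFintype (G := G)
  haveI : Fintype B := Fintype.ofFinite B
  have hone : IsPRegular p (1 : G) := by simp [IsPRegular, Nat.dvd_one, hM.1.ne_one]
  obtain ⟨φ, e, ⟨m, hm⟩, he, hsq⟩ := rank_one_decomposition hM hB (regPart_eq_bset hM hB h0 hd).1
  obtain ⟨χ₀, hχ₀⟩ := exists_mem_block hB
  have hd0 : (d₀ : ℂ) ≠ 0 := Nat.cast_ne_zero.2 (hd χ₀ hχ₀ ▸ (irr_one χ₀).2.ne')
  have hval : ∀ χ ∈ B, ((χ : IrrCharacter G) : G → ℂ) 1 = (d₀ : ℂ) := fun χ hχ => by
    rw [(irr_one χ).1, hd χ hχ]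
  have hfin : ∀ {α : Type} [AddCommMonoid α] (F : IrrCharacter G → α),
      ∑ᶠ ψ ∈ B, F ψ = ∑ ψ : B, F ψ.1 := fun F => by
    rw [finsum_mem_eq_sum_of_inter_support_eq (t := univ.filter (· ∈ B)) _ (by ext; simp)]
    exact sum_subtype (univ.filter (· ∈ B)) (p := (· ∈ B)) (by simp) F
  have hφ : φ 1 = ((∑ ψ : B, m ψ.1 : ℤ) : ℂ) * (d₀ : ℂ) := by
    rw [hm 1 hone, hfin fun ψ => (m ψ : ℂ) * (ψ : G → ℂ) 1]
    push_cast
    rw [sum_mul]
    exact sum_congr rfl fun ψ _ => by rw [hval ψ.1 ψ.2]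
  have he1 : ∀ χ : B, e χ.1 = 1 := fun χ => by
    have h := he χ.1 χ.2 1 hone
    rw [hval χ.1 χ.2, hφ, ← mul_assoc] at h
    have h1 : (e χ.1 : ℂ) * ((∑ ψ : B, m ψ.1 : ℤ) : ℂ) = 1 :=
      mul_right_cancel₀ hd0 (by rw [one_mul]; exact h.symm)
    have h2 : (e χ.1 : ℤ) * (∑ ψ : B, m ψ.1) = 1 := by exact_mod_cast h1
    have h3 := Int.eq_one_of_mul_eq_one_right (Int.natCast_nonneg _) h2
    exact_mod_cast h3
  rw [← hsq, hfin fun χ => e χ ^ 2, Nat.card_eq_fintype_card]
  simp [he1]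

end CfsgLib.EqualDegree
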