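import Cfsg.Agent.LocalB.EqualDegree.Corner
import Cfsg.Agent.BlocksB.InertialAbelian

/-!
# The centre of the block of the centralizer of an abelian defect group
-/

set_option autoImplicit false
set_option linter.style.haveILetI false
set_option linter.unusedSectionVars false

namespace CfsgLib.EqualDegree

open Cfsg Finset CfsgLib.Block CfsgLib.Block.Chr CfsgLib.BrauerPairs CfsgLib.BlockStar
  CfsgLib.BrauerBasis CfsgLib.Cyclic Module MonoidAlgebra
open scoped Classical

universe u

variable {M : Ideal AlgInt} [M.IsPrime] {p : ℕ} [Fact p.Prime] [CharP (Residue M) p]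
  {G : Type u} [Group G] [Fintype G] {B : Set (IrrCharacter G)}

local notation "𝕜" => Residue M
local notation "KG" => MonoidAlgebra (Residue M) G
local notation "C[" Q "]" => Subgroup.centralizer (SetLike.coe Q)

/-- A nilpotent block with abelian defect group has all degrees equal. -/
theorem equal_degree_of_isNil (hM : IsPModular p M) (hB : IsPBlock M B)
    (hnil : IsNil p (idem M B)) {P : Subgroup G} {e : KG} (hmax : IsMaxPair p (idem M B) (P, e))
    (hab : ∀ x ∈ P, ∀ y ∈ P, x * y = y * x) :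
    ∃ d : ℕ, ∀ χ ∈ B, charDegree ((χ : IrrCharacter G) : G → ℂ) = d := by
  haveI : Fintype P := Fintype.ofFinite P
  obtain ⟨χ₀, hχ₀, -, Φ, hΦ⟩ := exists_generating hM hB hnil hmax
  refine ⟨charDegree (χ₀ : G → ℂ), fun χ hχ => ?_⟩
  obtain ⟨ζ, hζ⟩ := Φ.surjective ⟨χ, hχ⟩
  have h := hΦ ζ 1 (by rw [orderOf_one]; exact hM.1.not_dvd_one)
  have h1 : (charDegree (ζ : P → ℂ) : ℂ) = 1 := by
    rw [← (irr_one ζ).1]
    exact CfsgLib.Char.IsIrrCharacter.apply_one_eq_one ζ.2 fun a b =>
      Subtype.ext (hab _ a.2 _ b.2)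
  rw [hζ, h1, one_mul, (irr_one χ).1, (irr_one χ₀).1] at h
  exact_mod_cast h

/-- With all degrees equal all heights vanish. -/
theorem height_zero_of_equal (hM : IsPModular p M) (hB : IsPBlock M B) {d₀ : ℕ}
    (hd : ∀ χ ∈ B, charDegree ((χ : IrrCharacter G) : G → ℂ) = d₀) :
    ∀ χ ∈ B, blockHeight p B ((χ : IrrCharacter G) : G → ℂ) = 0 := by
  obtain ⟨ξ, hξ, h0⟩ := exists_height_zero hM hB
  intro χ hχ
  unfold blockHeight at h0 ⊢
  rw [hd χ hχ]
  rwa [hd ξ hξ] at h0

/-- The local centre: elements of the block of `C(P)` are supported on `C(P)` and central there. -/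
noncomputable def locCentre (P : Subgroup G) (e : KG) : Submodule 𝕜 KG where
  carrier := {z | SuppIn C[P] z ∧ FixBy C[P] z ∧ e * z = z}
  add_mem' := fun {a c} ha hc => ⟨fun g hg => by simp [ha.1 g hg, hc.1 g hg],
    fun t ht => by rw [map_add, ha.2.1 t ht, hc.2.1 t ht], by rw [mul_add, ha.2.2, hc.2.2]⟩
  zero_mem' := ⟨fun g _ => by simp, fun t _ => map_zero _, mul_zero _⟩
  smul_mem' := fun r a ha => ⟨fun g hg => by simp [ha.1 g hg],
    fun t ht => by rw [map_smul, ha.2.1 t ht], by rw [mul_smul_comm, ha.2.2]⟩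

/-- The local centre is at most as large as the defect group. -/
theorem finrank_locCentre_le (hM : IsPModular p M) (hB : IsPBlock M B) {P : Subgroup G} {e : KG}
    (hmax : IsMaxPair p (idem M B) (P, e)) (hab : ∀ x ∈ P, ∀ y ∈ P, x * y = y * x) :
    finrank 𝕜 (locCentre P e) ≤ Nat.card P := by
  haveI := Fintype.ofFinite (C[P] : Subgroup G)
  have he : IsBlk 𝕜 C[P] e := hmax.1.1.2
  obtain ⟨c, hc, rfl⟩ := exists_idemIn_eq hM he
  have hP : IsPair p (P, idemIn M C[P] c) := hmax.1.1
  have hPC : P ≤ C[P] := fun x hx => Subgroup.mem_centralizer_iff.mpr fun y hy => hab y hy x hx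
  obtain ⟨f, hf⟩ := Inertial.exists_inducedIn hM hP.1 hc hab (le_refl P)
  obtain ⟨e', -, -, hmax'⟩ := Inertial.local_maxPair hM hB hP hmax hab le_rfl hf
  have hfc : idemIn M C[P] f = idemIn M C[P] c :=
    congrArg Prod.snd (PLE.eq_of_eq (Inertial.ple_of_inducedIn hM hP hab le_rfl hf) rfl)
  have hfB : IsPBlock M f := hf.2.1
  have hnil : IsNil p (idem M f) := ((isNilpotentBlock_iff hM).1
    (Inertial.isNilpotentBlock_local hM hB hP hmax hab le_rfl (fun _ _ h => h) hf)).2
  obtain ⟨d₁, hd₁⟩ := equal_degree_of_isNil hM hfB hnil hmax'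
    (fun x hx y hy => Subtype.ext (hab _ hx _ hy))
  have h01 := height_zero_of_equal hM hfB hd₁
  obtain ⟨U, eU, E⟩ := exists_good hM hfB h01 hd₁
  have hcard : Nat.card f = Nat.card P := by
    rw [card_eq_pow hM hfB h01 hd₁, ← card_defectGroup hM hfB (isDefectGroup_of_isDef hM hfB
      (hmax'.isDef (isBlk_idem hM hfB))), Nat.card_congr (Subgroup.subgroupOfEquivOfLe hPC).toEquiv]
  let W : Submodule 𝕜 (MonoidAlgebra 𝕜 C[P]) :=
    { carrier := {z | (∀ a, z * a = a * z) ∧ idem M f * z = z}
      add_mem' := fun {a c} ha hc => ⟨fun x => by rw [add_mul, mul_add, ha.1, hc.1],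
        by rw [mul_add, ha.2, hc.2]⟩
      zero_mem' := ⟨fun x => by rw [zero_mul, mul_zero], mul_zero _⟩
      smul_mem' := fun r a ha => ⟨fun x => by rw [smul_mul_assoc, mul_smul_comm, ha.1],
        by rw [mul_smul_comm, ha.2]⟩ }
  haveI : Module.Finite 𝕜 (MonoidAlgebra 𝕜 C[P]) :=
    Module.Finite.of_basis (MonoidAlgebra.basis _ 𝕜)
  have hW := E.finrank_central_le hM hfB W (fun z hz => hz.1) fun z hz => hz.2
  rw [hcard] at hW
  refine le_trans ?_ hW
  let R : locCentre P (idemIn M C[P] c) →ₗ[𝕜] W :=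
    { toFun := fun z => ⟨restr (C[P] : Subgroup G) z.1, fun a => by
        refine (alg_commute le_rfl (suppIn_top a) ?_).symm
        exact fixBy_of_coeff fun t _ g => by
          simp only [restr, coeff_ofFun, Subgroup.coe_mul, Subgroup.coe_inv]
          exact z.2.2.1.coeff_eq t.2 _, by
        refine emb_injective (C[P] : Subgroup G) ?_
        rw [map_mul, emb_restr _ z.2.1, ← idemIn_eq, hfc]
        exact z.2.2.2⟩
      map_add' := fun a c => Subtype.ext (coeff_ext fun g => by simp [restr])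
      map_smul' := fun r a => Subtype.ext (coeff_ext fun g => by simp [restr]) }
  refine LinearMap.finrank_le_finrank_of_injective (f := R) fun a c h => Subtype.ext ?_
  have h' := congrArg (fun w : W => emb (C[P] : Subgroup G) w.1) h
  rwa [show emb (C[P] : Subgroup G) (R a).1 = a.1 from emb_restr _ a.2.1,
    show emb (C[P] : Subgroup G) (R c).1 = c.1 from emb_restr _ c.2.1] at h'

/-- The elements of the defect group times the idempotent. -/
noncomputable def unitFamily (P : Subgroup G) (e : KG) [Fintype P] : (P → 𝕜) →ₗ[𝕜] KG where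
  toFun a := ∑ u : P, a u • (MonoidAlgebra.single (u : G) (1 : 𝕜) * e)
  map_add' a c := by simp only [Pi.add_apply, add_smul, sum_add_distrib]
  map_smul' r a := by simp only [Pi.smul_apply, smul_eq_mul, mul_smul, smul_sum, RingHom.id_apply]

/-- The family is free. -/
theorem unitFamily_injective (hM : IsPModular p M) {P : Subgroup G} [Fintype P] {e : KG}
    (hP : IsPair p (P, e)) (hab : ∀ x ∈ P, ∀ y ∈ P, x * y = y * x) :
    Function.Injective (unitFamily (M := M) P e) := by
  haveI := Fintype.ofFinite (C[P] : Subgroup G)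
  have he : IsBlk 𝕜 C[P] e := hP.2
  obtain ⟨c, hc, hce⟩ := exists_idemIn_eq hM he
  obtain ⟨g, hg⟩ : ∃ g, e.coeff g ≠ 0 := by
    by_contra h
    simp only [not_exists, not_not] at h
    exact hP.2.ne_zero (show e = 0 from coeff_ext fun g => by simp [h g])
  have hgC : g ∈ (C[P] : Subgroup G) := by_contra fun h => hg (hP.2.suppIn g h)
  have hsing : ∀ x : G, p ∣ orderOf x → e.coeff x = 0 := by
    intro x hx
    by_cases hxC : x ∈ (C[P] : Subgroup G)
    · have hx' : p ∣ orderOf (⟨x, hxC⟩ : (C[P] : Subgroup G)) := by rwa [Subgroup.orderOf_mk]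
      rw [← hce, idemIn_eq, show x = ((⟨x, hxC⟩ : (C[P] : Subgroup G)) : G) from rfl, coeff_emb_coe,
        idem, coeff_redFun, blockCoeff_eq_zero_of_singular hM hc hx', red_zero]
    · exact hP.2.suppIn x hxC
  rw [← LinearMap.ker_eq_bot, LinearMap.ker_eq_bot']
  intro a ha
  funext u₀
  have h := congrArg (fun z : KG => z.coeff ((u₀ : G) * g)) ha
  simp only [unitFamily, LinearMap.coe_mk, AddHom.coe_mk, MonoidAlgebra.coeff_sum,
    Finsupp.finsetSum_apply, MonoidAlgebra.coeff_smul, Finsupp.smul_apply, smul_eq_mul,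
    MonoidAlgebra.coeff_single_mul_apply, one_mul, MonoidAlgebra.coeff_zero,
    Finsupp.zero_apply] at h
  rw [sum_eq_single u₀] at h
  · rw [inv_mul_cancel_left] at h
    exact (mul_eq_zero.1 h).resolve_right hg
  · intro u _ hu
    rw [hsing, mul_zero]
    rw [← mul_assoc]
    by_contra hreg
    refine hu ?_
    set v : G := (u : G)⁻¹ * u₀ with hv
    have hvP : v ∈ P := P.mul_mem (P.inv_mem u.2) u₀.2
    have hcomm : Commute v g := Subgroup.mem_centralizer_iff.1 hgC v hvP
    have hg' : ¬ p ∣ orderOf g := fun h' => hg (hsing g h')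
    set m := orderOf (v * g) * orderOf g
    have hvm : v ^ m = 1 := by
      have h1 : (v * g) ^ m = 1 := by rw [pow_mul, pow_orderOf_eq_one, one_pow]
      rwa [hcomm.mul_pow, show g ^ m = 1 by
        rw [show m = orderOf g * orderOf (v * g) from mul_comm _ _, pow_mul, pow_orderOf_eq_one,
          one_pow], mul_one] at h1
    obtain ⟨k, hk⟩ := hP.1 ⟨v, hvP⟩
    have hk' : v ^ p ^ k = 1 := congrArg Subtype.val hk
    have hcop : Nat.Coprime (p ^ k) m := by
      refine ((Fact.out : p.Prime).coprime_iff_not_dvd.2 fun h' => ?_).pow_left k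
      rcases (Fact.out : p.Prime).dvd_mul.1 h' with h'' | h''
      · exact hreg h''
      · exact hg' h''
    have hv1 : v = 1 := by
      rw [← pow_one v, ← hcop.gcd_eq_one]
      exact pow_gcd_eq_one.mpr ⟨hk', hvm⟩
    exact Subtype.ext (inv_mul_eq_one.1 hv1)
  · exact fun h' => absurd (mem_univ u₀) h'

/-- The local centre is spanned by the family. -/
theorem range_unitFamily (hM : IsPModular p M) (hB : IsPBlock M B) {P : Subgroup G} [Fintype P]
    {e : KG} (hmax : IsMaxPair p (idem M B) (P, e)) (hab : ∀ x ∈ P, ∀ y ∈ P, x * y = y * x) :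
    LinearMap.range (unitFamily (M := M) P e) = locCentre P e := by
  haveI : Module.Finite 𝕜 KG := Module.Finite.of_basis (MonoidAlgebra.basis G 𝕜)
  have hP : IsPair p (P, e) := hmax.1.1
  have hmem : ∀ u : P, MonoidAlgebra.single (u : G) (1 : 𝕜) * e ∈ locCentre P e := by
    intro u
    have hu : (u : G) ∈ (C[P] : Subgroup G) :=
      Subgroup.mem_centralizer_iff.2 fun y hy => hab y hy u u.2
    refine ⟨fun g hg => ?_, fun t ht => ?_, ?_⟩
    · rw [MonoidAlgebra.coeff_single_mul_apply, hP.2.suppIn _ fun h => hg ?_, mul_zero]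
      simpa using (C[P] : Subgroup G).mul_mem hu h
    · rw [map_mul, hP.2.fixBy t ht]
      congr 1
      refine coeff_ext fun g => ?_
      have htu : t * (u : G) * t⁻¹ = u := by
        rw [← Subgroup.mem_centralizer_iff.1 ht (u : G) u.2, mul_inv_cancel_right]
      rw [coeff_cj, MonoidAlgebra.coeff_single,
        Finsupp.single_apply, Finsupp.single_apply]
      refine if_congr ⟨fun h => ?_, fun h => ?_⟩ rfl rfl
      · calc (u : G) = t * (u : G) * t⁻¹ := htu.symm
          _ = g := by rw [h]; group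
      · rw [← h]
        calc (u : G) = t⁻¹ * (t * (u : G) * t⁻¹) * t := by group
          _ = t⁻¹ * u * t := by rw [htu]
    · rw [← mul_assoc, ← alg_commute (H := (C[P] : Subgroup G)) le_rfl (fun g hg => ?_) hP.2.fixBy,
        mul_assoc, hP.2.idem]
      rw [MonoidAlgebra.coeff_single, Finsupp.single_apply, if_neg fun (h : (u : G) = g) => hg (h ▸ hu)]
  refine Submodule.eq_of_le_of_finrank_le ?_ ?_
  · rintro _ ⟨a, rfl⟩
    exact Submodule.sum_mem _ fun u _ => Submodule.smul_mem _ _ (hmem u)
  · rw [LinearMap.finrank_range_of_inj (unitFamily_injective hM hP hab), Module.finrank_fintype_fun_eq_card,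
      ← Nat.card_eq_fintype_card]
    exact finrank_locCentre_le hM hB hmax hab

end CfsgLib.EqualDegree
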