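import Cfsg.Agent.LocalB.EqualDegree.Local

/-!
# Blocks with abelian defect group and equal degrees are nilpotent
-/

set_option autoImplicit false
set_option linter.style.haveILetI false
set_option linter.unusedSectionVars false

namespace CfsgLib.EqualDegree

open Cfsg Finset CfsgLib.Block CfsgLib.Block.Chr CfsgLib.BrauerPairs CfsgLib.BlockStar
  CfsgLib.LocalSymm CfsgLib.Cyclic Module MonoidAlgebra
open scoped Classical

universe u

variable {M : Ideal AlgInt} [M.IsPrime] {p : ℕ} [Fact p.Prime] [CharP (Residue M) p]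
  {G : Type u} [Group G] [Fintype G] {B : Set (IrrCharacter G)}

local notation "𝕜" => Residue M
local notation "KG" => MonoidAlgebra (Residue M) G
local notation "C[" Q "]" => Subgroup.centralizer (SetLike.coe Q)

/-- The Brauer map followed by one local idempotent is injective on the centre of the block
modulo the Brauer map. -/
theorem br_eq_zero_of_mul_eq_zero (hM : IsPModular p M) (hB : IsPBlock M B) {P : Subgroup G}
    {e : KG} (hmax : IsMaxPair p (idem M B) (P, e)) {z : KG} (hz : ∀ a : KG, z * a = a * z)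
    (hbz : idem M B * z = z) (h0 : br P z * e = 0) : br P z = 0 := by
  by_contra hne
  have hP : IsPair p (P, e) := hmax.1.1
  have hb := isBlk_idem hM hB
  have hfix : ∀ T : Subgroup G, FixBy T z := fun T => fixBy_iff_commute.2 fun t _ => (hz _).symm
  have hbfix : FixBy P (idem M B) := (idem_mem B).2.mono le_top
  have hw : br P z ∈ alg 𝕜 C[P] C[P] :=
    ⟨suppIn_br z, fixBy_br (hfix _) (centralizer_le_normalizer P)⟩
  have hbr : br P (idem M B) ∈ alg 𝕜 C[P] C[P] :=
    ⟨suppIn_br _, fixBy_br ((idem_mem B).2.mono le_top) (centralizer_le_normalizer P)⟩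
  have hS := alg_comm (k := 𝕜) (le_refl (C[P] : Subgroup G))
  have hmul : br P (idem M B) * br P z = br P z := by
    rw [← br_mul hP.1 hbfix (hfix P), hbz]
  obtain ⟨f, hf, hfw⟩ := exists_prim_mul_ne_zero hS hne
  have hf' : IsBlk 𝕜 C[P] f := hf
  have hbf : br P (idem M B) * f = f := by
    rcases hf'.mul_eq_zero_or hbr (br_idem hP.1 (idem_idem hB) hbfix) with h | h
    · exact absurd (by rw [← hmul, ← mul_assoc, h, zero_mul]) hfw
    · rw [hS _ hbr _ hf'.mem]; exact h
  have hpair : IsPairOf p (idem M B) (P, f) := ⟨⟨hP.1, hf'⟩, hbf⟩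
  have hmaxf : IsMaxPair p (idem M B) (P, f) :=
    (isMaxPair_iff_card hb (hmax.isDef hb)).mpr ⟨hpair, rfl⟩
  obtain ⟨t, ht⟩ := hmax.conj hb hmaxf
  have h1 : P.map (MulAut.conj t).toMonoidHom = P := congrArg Prod.fst ht
  have h2 : cj 𝕜 t e = f := congrArg Prod.snd ht
  have h3 : cj 𝕜 t (br P z) = br P z := by
    rw [cj_br, h1, hfix ⊤ t (Subgroup.mem_top t)]
  refine hfw ?_
  rw [hS _ hf'.mem _ hw, ← h2, ← h3, ← map_mul, h0, map_zero]

/-- **The reduction of a member survives the Brauer map.** -/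
theorem br_charElt_ne_zero (hM : IsPModular p M) (hB : IsPBlock M B) {P : Subgroup G}
    (hP : IsDefectGroup p M B P) {χ : IrrCharacter G} (hχ : χ ∈ B)
    (h0 : blockHeight p B (χ : G → ℂ) = 0) : br P (charElt M χ) ≠ 0 := by
  obtain ⟨g, hg, S, rfl⟩ := hP
  intro h
  have hgC : g⁻¹ ∈ Subgroup.centralizer (SetLike.coe ((S : Subgroup (Subgroup.centralizer ({g} : Set G))).map
      (Subgroup.centralizer ({g} : Set G)).subtype)) := by
    refine Subgroup.inv_mem _ (Subgroup.mem_centralizer_iff.2 fun y hy => ?_)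
    obtain ⟨y, -, rfl⟩ := hy
    exact Subgroup.mem_centralizer_singleton_iff.1 y.2
  have h1 := congrArg (fun z : KG => z.coeff g⁻¹) h
  simp only [coeff_br_of_mem _ hgC, charElt, coeff_redFun, inv_inv, MonoidAlgebra.coeff_zero,
    Finsupp.zero_apply] at h1
  exact (blockHeight_eq_zero_iff hM hB hg hχ).1 h0 ((red_eq_zero_iff
    (memLocalRing_of_isIntegral (CfsgLib.Char.IsCharacter.isIntegral (isCharacter_irr χ) _))).1 h1)

/-- **The inertial group is trivial.** -/
theorem stab_le_centralizer (hM : IsPModular p M) (hB : IsPBlock M B) {P : Subgroup G}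
    (hPD : IsDefectGroup p M B P) {e : KG} (hmax : IsMaxPair p (idem M B) (P, e))
    (hab : ∀ x ∈ P, ∀ y ∈ P, x * y = y * x) {d₀ : ℕ}
    (hd : ∀ χ ∈ B, charDegree ((χ : IrrCharacter G) : G → ℂ) = d₀) :
    stab P e ≤ C[P] := by
  haveI : Fintype P := Fintype.ofFinite P
  haveI : Module.Finite 𝕜 KG := Module.Finite.of_basis (MonoidAlgebra.basis G 𝕜)
  have hP : IsPair p (P, e) := hmax.1.1
  have h0 := height_zero_of_equal hM hB hd
  obtain ⟨χ, hχ⟩ := exists_mem_block hB
  obtain ⟨U, eU, E⟩ := exists_good hM hB h0 hd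
  have hz : ∀ a : cornerSub 𝕜 U.i, ∀ c : KG, U.cLift a.1 * c = c * U.cLift a.1 := fun a c =>
    E.lift_central hM hB a.2 c
  have hfix : ∀ (a : cornerSub 𝕜 U.i) (T : Subgroup G), FixBy T (U.cLift a.1) := fun a T =>
    fixBy_iff_commute.2 fun t _ => (hz a _).symm
  let L : cornerSub 𝕜 U.i →ₗ[𝕜] KG :=
    { toFun := fun a => br P (U.cLift a.1) * e
      map_add' := fun a c => by simp only [Submodule.coe_add, map_add, add_mul]
      map_smul' := fun r a => by
        simp only [Submodule.coe_smul, map_smul, smul_mul_assoc, RingHom.id_apply] }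
  have hL : Function.Injective L := by
    rw [← LinearMap.ker_eq_bot, LinearMap.ker_eq_bot']
    intro a ha
    by_contra hne
    have hbr : br P (U.cLift a.1) = 0 :=
      br_eq_zero_of_mul_eq_zero hM hB hmax (hz a) (U.idem_lift hM hB _) ha
    obtain ⟨c, r, hc, hsc⟩ := E.socle hχ a.2 fun h => hne (Subtype.ext h)
    refine br_charElt_ne_zero hM hB hPD hχ (h0 χ hχ) ?_
    rw [← Units.lift_charElt (U := U) hB hχ, hsc, map_smul, map_smul,
      ← Units.lift_mul (U := U) a.2 hc, br_mul hP.1 (hfix a P) (hfix ⟨c, hc⟩ P), hbr, zero_mul,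
      smul_zero]
  intro t ht
  by_contra hnot
  obtain ⟨u₁, hu₁⟩ : ∃ u₁ : P, t * (u₁ : G) * t⁻¹ ≠ u₁ := by
    by_contra hall
    simp only [not_exists, not_not] at hall
    exact hnot (Subgroup.mem_centralizer_iff.2 fun y hy =>
      (mul_inv_eq_iff_eq_mul.1 (hall ⟨y, hy⟩)).symm)
  have hσmem : ∀ u : P, t * (u : G) * t⁻¹ ∈ P := fun u =>
    (Subgroup.mem_normalizer_iff.1 ht.1 u).1 u.2
  let σ : P ≃ P := Equiv.ofBijective (fun u => ⟨t * (u : G) * t⁻¹, hσmem u⟩)
    (Finite.injective_iff_bijective.1 fun u v h => Subtype.ext (by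
      have := congrArg Subtype.val h
      simpa using this))
  -- the functions fixed by the permutation
  let H : Submodule 𝕜 (P → 𝕜) :=
    LinearMap.ker ((LinearMap.proj (σ u₁) : (P → 𝕜) →ₗ[𝕜] 𝕜) - LinearMap.proj u₁)
  have hH : finrank 𝕜 H < Nat.card P := by
    have hlt : H < ⊤ := by
      refine lt_top_iff_ne_top.2 fun htop => ?_
      have hm : Pi.single (σ u₁) (1 : 𝕜) ∈ H := htop ▸ Submodule.mem_top
      rw [LinearMap.mem_ker, LinearMap.sub_apply, LinearMap.proj_apply, LinearMap.proj_apply,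
        Pi.single_eq_same, Pi.single_eq_of_ne (fun h => hu₁ (congrArg Subtype.val h).symm),
        sub_zero] at hm
      exact one_ne_zero hm
    have := Submodule.finrank_lt_finrank_of_lt hlt
    rwa [finrank_top, Module.finrank_fintype_fun_eq_card, ← Nat.card_eq_fintype_card] at this
  have hrange : LinearMap.range L ≤ H.map (unitFamily (M := M) P e) := by
    rintro _ ⟨a, rfl⟩
    set w := br P (U.cLift a.1)
    have hw : w ∈ alg 𝕜 C[P] C[P] :=
      ⟨suppIn_br _, fixBy_br (hfix a _) (centralizer_le_normalizer P)⟩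
    have hwe : w * e = e * w := alg_comm (k := 𝕜) (le_refl (C[P] : Subgroup G)) _ hw _ hP.2.mem
    have hmem : L a ∈ locCentre P e := by
      refine ⟨(mul_mem hw hP.2.mem).1, (mul_mem hw hP.2.mem).2, ?_⟩
      show e * (w * e) = w * e
      rw [hwe, ← mul_assoc, hP.2.idem]
    rw [← range_unitFamily hM hB hmax hab] at hmem
    obtain ⟨f, hf⟩ := hmem
    refine ⟨f, ?_, hf⟩
    have hfix' : cj 𝕜 t (L a) = L a := by
      show cj 𝕜 t (w * e) = w * e
      rw [map_mul, ht.2, cj_br_of_mem ht.1, hfix a ⊤ t (Subgroup.mem_top t)]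
    have hcj : cj 𝕜 t (unitFamily (M := M) P e f) = unitFamily (M := M) P e (f ∘ σ.symm) := by
      simp only [unitFamily, LinearMap.coe_mk, AddHom.coe_mk, map_sum, map_smul, map_mul, ht.2]
      refine Fintype.sum_equiv σ _ _ fun u => ?_
      simp only [Function.comp, Equiv.symm_apply_apply]
      congr 2
      refine coeff_ext fun g => ?_
      rw [coeff_cj, MonoidAlgebra.coeff_single, MonoidAlgebra.coeff_single,
        Finsupp.single_apply, Finsupp.single_apply]
      refine if_congr ⟨fun h => ?_, fun h => ?_⟩ rfl rfl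
      · show t * (u : G) * t⁻¹ = g
        rw [h]; group
      · rw [← h]
        show (u : G) = t⁻¹ * (t * (u : G) * t⁻¹) * t
        group
    have heq : f ∘ σ.symm = f :=
      unitFamily_injective hM hP hab (by rw [← hcj, hf, hfix'])
    have h1 := congrFun heq (σ u₁)
    simp only [Function.comp, Equiv.symm_apply_apply] at h1
    show f ∈ LinearMap.ker _
    rw [LinearMap.mem_ker, LinearMap.sub_apply, LinearMap.proj_apply, LinearMap.proj_apply, ← h1,
      sub_self]
  have h := Submodule.finrank_mono hrange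
  rw [LinearMap.finrank_range_of_inj hL, E.finrank_corner hM, card_eq_pow hM hB h0 hd,
    ← card_defectGroup hM hB hPD] at h
  exact absurd (h.trans (Submodule.finrank_map_le _ _)) (not_le.2 hH)

/-- **Equal degrees characterize nilpotent blocks with abelian defect group.** -/
theorem equal_degrees_iff (hM : IsPModular p M) (hB : IsPBlock M B) {P : Subgroup G}
    (hPD : IsDefectGroup p M B P) (hab : ∀ x ∈ P, ∀ y ∈ P, x * y = y * x) :
    (∃ d : ℕ, ∀ χ ∈ B, charDegree ((χ : IrrCharacter G) : G → ℂ) = d) ↔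
      IsNilpotentBlock p M B := by
  have hb := isBlk_idem hM hB
  obtain ⟨e, hmax⟩ := exists_isMaxPair hb (isDef_of_isDefectGroup hM hB hPD)
  rw [isNilpotentBlock_iff hM, and_iff_right hB]
  refine ⟨fun ⟨d, hd⟩ => ?_, fun h => equal_degree_of_isNil hM hB h hmax hab⟩
  rw [isNil_iff_of_abelian hmax.1.1 hb hmax hab fun R f h => isSplit_of_isPair hM R f h]
  exact stab_le_centralizer hM hB hPD hmax hab hd

end CfsgLib.EqualDegree
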