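import Cfsg.Agent.Blocks.BrauerRestrict
import Mathlib.LinearAlgebra.Trace

/-!
# Character values on a corner of trace at most one
-/

set_option autoImplicit false
set_option linter.style.haveILetI false
set_option linter.unusedSectionVars false

namespace CfsgLib.EqualDegree

open Cfsg Finset CfsgLib.Block CfsgLib.Block.Chr CfsgLib.BrauerPairs CfsgLib.BlockStar
  CfsgLib.BrauerBasis Module
open scoped Classical

universe u

/-- An endomorphism compressed by an idempotent of trace at most one is a multiple of it. -/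
theorem compress_eq_trace_smul {V : Type*} [AddCommGroup V] [Module ℂ V] [FiniteDimensional ℂ V]
    {P : Module.End ℂ V} (hP : P * P = P)
    (ht : LinearMap.trace ℂ V P = 0 ∨ LinearMap.trace ℂ V P = 1) (X : Module.End ℂ V) :
    P * X * P = LinearMap.trace ℂ V (P * X * P) • P := by
  have hproj : LinearMap.IsProj (LinearMap.range P) P :=
    ⟨fun x => LinearMap.mem_range_self P x, by
      rintro _ ⟨y, rfl⟩
      exact LinearMap.congr_fun hP y⟩
  have htr := hproj.trace
  rcases ht with h | h <;> rw [h] at htr
  · have h0 : finrank ℂ (LinearMap.range P) = 0 := by exact_mod_cast htr.symm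
    have hP0 : P = 0 := LinearMap.range_eq_bot.1 (Submodule.finrank_eq_zero.1 h0)
    simp [hP0]
  · have h1 : finrank ℂ (LinearMap.range P) = 1 := by exact_mod_cast htr.symm
    obtain ⟨v, hv, hv1⟩ := finrank_eq_one_iff'.1 h1
    have hPv : P (v : V) = v := hproj.map_id _ v.2
    have hc : ∀ x, ∃ c : ℂ, P x = c • (v : V) := fun x => by
      obtain ⟨c, hc⟩ := hv1 ⟨P x, LinearMap.mem_range_self P x⟩
      exact ⟨c, (congrArg Subtype.val hc).symm⟩
    choose c hc using hc
    obtain ⟨d, hd⟩ : ∃ d : ℂ, P * X * P = d • P := ⟨c (X v), LinearMap.ext fun y => by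
      simp only [Module.End.mul_apply, LinearMap.smul_apply]
      rw [hc y, map_smul, map_smul, hc (X v), smul_smul, smul_smul, mul_comm]⟩
    conv_lhs => rw [hd]
    rw [hd, map_smul, h, smul_eq_mul, mul_one]

variable {M : Ideal AlgInt} [M.IsPrime] {G : Type u} [Group G] [Fintype G]

/-- The representation of the group algebra over the local ring. -/
noncomputable def lrep {n : ℕ} (σ : Representation ℂ G (Fin n → ℂ)) :
    LA M G →+* Module.End ℂ (Fin n → ℂ) :=
  σ.asAlgebraHom.toRingHom.comp (MonoidAlgebra.mapRingHom G (localRing M).subtype)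

theorem lrep_single {n : ℕ} (σ : Representation ℂ G (Fin n → ℂ)) (g : G) (r : localRing M) :
    lrep σ (MonoidAlgebra.single g r) = (r : ℂ) • σ g := by
  simp [lrep]

theorem cval_eq_trace {n : ℕ} (σ : Representation ℂ G (Fin n → ℂ)) (z : LA M G) :
    cval σ.character z = LinearMap.trace ℂ _ (lrep σ z) := by
  have hz : z = ∑ g : G, MonoidAlgebra.single g (z.coeff g) :=
    MonoidAlgebra.coeff_injective (Finsupp.ext fun g => by
      rw [MonoidAlgebra.coeff_sum, Finsupp.finsetSum_apply, sum_eq_single g]
      · simp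
      · intro h _ hne; simp [hne]
      · simp)
  conv_rhs => rw [hz, map_sum, map_sum]
  refine sum_congr rfl fun g _ => ?_
  rw [lrep_single, map_smul, smul_eq_mul]
  rfl

theorem cval_add (χ : G → ℂ) (z w : LA M G) : cval χ (z + w) = cval χ z + cval χ w := by
  simp [cval, add_mul, sum_add_distrib]

/-- On a corner at an idempotent of trace at most one the character is multiplicative. -/
theorem cval_corner (χ : IrrCharacter G) {e : LA M G} (he : e * e = e)
    (ht : cval (χ : G → ℂ) e = 0 ∨ cval (χ : G → ℂ) e = 1) {z w : LA M G}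
    (hz : e * z * e = z) (hw : e * w * e = w) :
    cval (χ : G → ℂ) (z * w) = cval (χ : G → ℂ) z * cval (χ : G → ℂ) w ∧
      ∀ u : LA M G, cval (χ : G → ℂ) (z * w * u) = cval (χ : G → ℂ) (w * z * u) := by
  obtain ⟨n, σ, -, hσ⟩ := χ.2
  simp only [← hσ, cval_eq_trace] at ht ⊢
  have hP : lrep σ e * lrep σ e = lrep σ e := by rw [← map_mul, he]
  have key : ∀ y : LA M G, e * y * e = y →
      lrep σ y = LinearMap.trace ℂ _ (lrep σ y) • lrep σ e := fun y hy => by
    have h := compress_eq_trace_smul hP ht (lrep σ y)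
    rwa [← map_mul, ← map_mul, hy] at h
  have h2 : LinearMap.trace ℂ _ (lrep σ z) * LinearMap.trace ℂ _ (lrep σ w) *
      LinearMap.trace ℂ _ (lrep σ e) =
      LinearMap.trace ℂ _ (lrep σ z) * LinearMap.trace ℂ _ (lrep σ w) := by
    rcases ht with h | h
    · have h0 : lrep σ e = 0 := by
        have h' := compress_eq_trace_smul hP (Or.inl h) (lrep σ e)
        rwa [hP, hP, h, zero_smul] at h'
      have : lrep σ z = 0 := by rw [key z hz, h0, smul_zero]
      simp [this]
    · rw [h, mul_one]
  refine ⟨?_, fun u => ?_⟩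
  · rw [map_mul, key z hz, key w hw, smul_mul_smul_comm, hP, map_smul, ← key z hz, ← key w hw,
      smul_eq_mul, h2]
  · simp only [map_mul]
    rw [key z hz, key w hw]
    simp only [smul_mul_assoc, mul_smul_comm, smul_smul, mul_comm]

/-- An element of the group algebra is determined by its character values. -/
theorem eq_of_cval {z w : LA M G} (h : ∀ (χ : IrrCharacter G) (u : LA M G),
    cval (χ : G → ℂ) (z * u) = cval (χ : G → ℂ) (w * u)) : z = w := by
  letI := irrFintype (G := G)
  refine MonoidAlgebra.coeff_injective (Finsupp.ext fun g => Subtype.ext ?_)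
  have h1 : ∀ a : LA M G, (Fintype.card G : ℂ) * (a.coeff g : ℂ) =
      ∑ χ : IrrCharacter G, (χ : G → ℂ) 1 * cval (χ : G → ℂ) (a * MonoidAlgebra.single g⁻¹ 1) := by
    intro a
    rw [← sum_conj_coeff]
    simp [MonoidAlgebra.coeff_mul_single_apply]
  have h2 := h1 z
  simp only [h] at h2
  rw [← h1 w] at h2
  exact mul_left_cancel₀ (Nat.cast_ne_zero.2 Fintype.card_ne_zero) h2

end CfsgLib.EqualDegree
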