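import Cfsg.Agent.LocalB.EqualDegree.Decomp
import Cfsg.Agent.LocalB.EqualDegree.Trace
import Cfsg.Agent.BlocksB.LocalSymm.Linked
import Cfsg.Agent.BlocksB.FreeInertial.Local

/-!
# The value of a character at a primitive idempotent of a block with equal degrees
-/

set_option autoImplicit false
set_option linter.style.haveILetI false
set_option linter.unusedSectionVars false

namespace CfsgLib.EqualDegree

open Cfsg Finset CfsgLib.Block CfsgLib.Block.Chr CfsgLib.BrauerPairs CfsgLib.BlockStar
  CfsgLib.BrauerBasis CfsgLib.Cyclic CfsgLib.LocalSymm Module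
open scoped Classical

universe u

/-- The block at a primitive idempotent is spanned by a nonzero vector. -/
theorem finrank_range_le_one {k : Type*} [Field k] [IsAlgClosed k] {A : Type*} [Ring A] [Algebra k A]
    [FiniteDimensional k A] {S : Type*} [AddCommGroup S] [Module k S] [Module A S]
    [IsScalarTower k A S] [IsSimpleModule A S] {i : A} (hi : IsPrim i) (W : Submodule k S)
    (hW : ∀ w, w ∈ W ↔ i • w = w) : finrank k W ≤ 1 := by
  have hid := hi.2.1
  have hrad : ∀ r : A, i * r = r → r * i = r → IsNilpotent r → ∀ v ∈ W, r • v = 0 := by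
    intro r hr1 hr2 hr v hv
    by_contra hne
    obtain ⟨a, ha⟩ := exists_smul_of_ne_zero' (R := A) hne v
    set a' := i * a * i
    have ha1 : i * a' = a' := by simp only [a', ← mul_assoc, hid]
    have ha2 : a' * i = a' := by simp only [a', mul_assoc, hid]
    have hav : (a' * r) • v = v := by
      rw [show a' * r = i * (a * r) by simp only [a', mul_assoc, hr1], mul_smul, mul_smul, ha]
      exact (hW v).1 hv
    have h1 : cornerRes k i (a' * r) = 0 := by
      rw [cornerRes_mul hi ⟨ha1, ha2⟩ ⟨hr1, hr2⟩, cornerRes_eq (k := k) hi (a := r) (c := 0) (by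
        rw [zero_smul, sub_zero, hr1, hr2]; exact hr), mul_zero]
    have h2 := cornerRes_spec (k := k) hi (a' * r)
    rw [h1, zero_smul, sub_zero, ← mul_assoc i, ha1, mul_assoc a', hr2] at h2
    obtain ⟨N, hN⟩ := h2
    have hpow : ∀ m, (a' * r) ^ m • v = v := fun m => by
      induction m with
      | zero => rw [pow_zero, one_smul]
      | succ m ih => rw [pow_succ, mul_smul, hav, ih]
    have := hpow N
    rw [hN, zero_smul] at this
    exact hne (by rw [← this, smul_zero])
  by_cases h : ∃ v ∈ W, v ≠ 0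
  · obtain ⟨v, hv, hv0⟩ := h
    refine finrank_le_one (⟨v, hv⟩ : W) fun w => ?_
    obtain ⟨a, ha⟩ := exists_smul_of_ne_zero' (R := A) hv0 (w : S)
    refine ⟨cornerRes k i a, Subtype.ext ?_⟩
    have h0 := hrad (i * a * i - cornerRes k i a • i)
      (by rw [mul_sub, mul_smul_comm, hid]; simp only [← mul_assoc, hid])
      (by rw [sub_mul, smul_mul_assoc, hid]; simp only [mul_assoc, hid])
      (cornerRes_spec hi a) v hv
    rw [sub_smul, mul_smul, mul_smul, (hW v).1 hv, ha, (hW _).1 w.2, smul_assoc, (hW v).1 hv,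
      sub_eq_zero] at h0
    exact h0.symm
  · simp only [not_exists, not_and, not_not] at h
    rw [show W = ⊥ from (Submodule.eq_bot_iff W).2 h, finrank_bot]
    exact Nat.zero_le 1

variable {M : Ideal AlgInt} [M.IsPrime] {p : ℕ} [Fact p.Prime] [CharP (Residue M) p]
  {G : Type u} [Group G] [Fintype G] {B : Set (IrrCharacter G)}

local notation "𝕜" => Residue M
local notation "KG" => MonoidAlgebra (Residue M) G

/-- The matrix units of a block with one simple module. -/
structure Units (M : Ideal AlgInt) [M.IsPrime] (B : Set (IrrCharacter G)) where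
  i : MonoidAlgebra (Residue M) G
  n : ℕ
  j : Fin n → MonoidAlgebra (Residue M) G
  x : Fin n → MonoidAlgebra (Residue M) G
  y : Fin n → MonoidAlgebra (Residue M) G
  prim : IsPrim i
  bi : idem M B * i = i
  pos : 0 < n
  jprim : ∀ l, IsPrim (j l) ∧ idem M B * j l = j l
  orth : ∀ l m, l ≠ m → j l * j m = 0
  sum_j : ∑ l, j l = idem M B
  xy : ∀ l, x l * y l = j l ∧ y l * x l = i ∧ j l * x l = x l ∧ x l * i = x l ∧
        i * y l = y l ∧ y l * j l = y l

theorem exists_units (hM : IsPModular p M) (hB : IsPBlock M B) (hl : blockRank p B = 1) :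
    Nonempty (Units M B) := by
  obtain ⟨i, n, j, x, y, h1, h2, h3, h4, h5, h6, h7⟩ := exists_matrix_units hM hB hl
  exact ⟨⟨i, n, j, x, y, h1, h2, h3, h4, h5, h6, h7⟩⟩

namespace Units

variable (U : Units M B)

theorem idem_i : U.i * U.i = U.i := U.prim.2.1

theorem bx (hM : IsPModular p M) (hB : IsPBlock M B) (l : Fin U.n) :
    idem M B * U.x l = U.x l := by
  rw [← (U.xy l).2.2.1, ← mul_assoc, (U.jprim l).2]

theorem yx (l m : Fin U.n) : U.y l * U.x m = if l = m then U.i else 0 := by
  split_ifs with h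
  · subst h; exact (U.xy l).2.1
  · calc U.y l * U.x m = U.y l * (U.j l * U.j m) * U.x m := by
          rw [← (U.xy l).2.2.2.2.2, ← (U.xy m).2.2.1]
          simp only [mul_assoc]
          rw [← mul_assoc (U.j l) (U.j l), (U.jprim l).1.2.1, ← mul_assoc (U.j m) (U.j m),
            (U.jprim m).1.2.1]
      _ = 0 := by rw [U.orth l m h, mul_zero, zero_mul]

theorem sum_xy : ∑ l, U.x l * U.y l = idem M B :=
  (sum_congr rfl fun l _ => (U.xy l).1).trans U.sum_j

/-- The degree is at most the number of primitive idempotents. -/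
theorem degree_le (hM : IsPModular p M) (hB : IsPBlock M B) {d₀ : ℕ}
    (hreg : ∀ χ ∈ B, ∀ β ∈ bsetB p M B, regPart p ((χ : IrrCharacter G) : G → ℂ) = β)
    (hl : blockRank p B = 1)
    (hd : ∀ χ ∈ B, charDegree ((χ : IrrCharacter G) : G → ℂ) = d₀) : d₀ ≤ U.n := by
  haveI : Fintype (bsetB p M B) := (finite_bsetB hM B).fintype
  have hc := card_bsetB hM hB
  rw [hl] at hc
  obtain ⟨⟨f, m, hm, hfix, hf⟩⟩ : Nonempty (bsetB p M B) := Fintype.card_pos_iff.1 (by omega)
  obtain ⟨χ₀, hχ₀⟩ := exists_mem_block hB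
  haveI := finiteDimensional_quot (M := M) m
  haveI : IsSimpleModule KG (KG ⧸ m) := isSimpleModule_iff_isCoatom.2 hm
  have hdim : finrank 𝕜 (KG ⧸ m) = d₀ := by
    have h := congrFun (hreg χ₀ hχ₀ f ⟨m, hm, hfix, hf⟩) 1
    rw [regPart_of_not_dvd (by rw [orderOf_one]; exact hM.1.not_dvd_one), (irr_one χ₀).1,
      hd χ₀ hχ₀, ← hf, BrauerBasis.bchar_one hM] at h
    exact_mod_cast h.symm
  haveI : Module.Finite 𝕜 KG := Module.Finite.of_basis (MonoidAlgebra.basis G 𝕜)
  let W : Submodule 𝕜 (KG ⧸ m) :=
    { carrier := {w | U.i • w = w}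
      add_mem' := fun {a b} (ha : _ = a) (hb : _ = b) => by
        show U.i • (a + b) = a + b
        rw [smul_add, ha, hb]
      zero_mem' := smul_zero _
      smul_mem' := fun c a (ha : _ = a) => by
        show U.i • c • a = c • a
        rw [smul_comm, ha] }
  have hW1 : finrank 𝕜 W ≤ 1 := finrank_range_le_one U.prim W fun w => Iff.rfl
  let Ψ : (KG ⧸ m) →ₗ[𝕜] (Fin U.n → W) :=
    { toFun := fun v l => ⟨U.y l • v, by
        show U.i • U.y l • v = U.y l • v
        rw [← mul_smul, (U.xy l).2.2.2.2.1]⟩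
      map_add' := fun a b => funext fun l => Subtype.ext (smul_add _ _ _)
      map_smul' := fun c a => funext fun l => Subtype.ext (smul_comm _ _ _) }
  have hΨ : Function.Injective Ψ := fun v w h => by
    rw [← hfix v, ← hfix w, ← U.sum_xy, sum_smul, sum_smul]
    exact sum_congr rfl fun l _ => by
      rw [mul_smul, mul_smul]
      exact congrArg (U.x l • ·) (congrArg Subtype.val (congrFun h l))
  have h := LinearMap.finrank_le_finrank_of_injective hΨ
  rw [hdim, Module.finrank_pi_fintype, sum_const, card_univ, Fintype.card_fin, smul_eq_mul] at h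
  exact h.trans ((Nat.mul_le_mul_left _ hW1).trans_eq (mul_one _))

/-- A lift of the primitive idempotent on which all members take the value one and the other
characters vanish. -/
theorem exists_good_lift (hM : IsPModular p M) (hB : IsPBlock M B) {d₀ : ℕ}
    (hreg : ∀ χ ∈ B, ∀ β ∈ bsetB p M B, regPart p ((χ : IrrCharacter G) : G → ℂ) = β)
    (hl : blockRank p B = 1)
    (hd : ∀ χ ∈ B, charDegree ((χ : IrrCharacter G) : G → ℂ) = d₀) :
    ∃ e : LA M G, e * e = e ∧ redA e = U.i ∧
      ∀ χ : IrrCharacter G, cval (χ : G → ℂ) e = if χ ∈ B then 1 else 0 := by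
  obtain ⟨a, ha, hared, -⟩ := exists_lift (M := M) (⊥ : Subgroup G) U.idem_i (fixBy_bot U.i)
  have hcom : Commute a (liftIdem hB) := by
    rw [← MonoidAlgebra.sum_coeff_single a]
    exact Commute.sum_left _ _ _ fun g _ => commute_single_liftIdem hB g _
  set e := a * liftIdem hB
  have he : e * e = e := by
    show a * liftIdem hB * (a * liftIdem hB) = _
    rw [mul_assoc, ← mul_assoc (liftIdem hB), ← hcom.eq, mul_assoc a, liftIdem_idem hB,
      ← mul_assoc, ha]
  have hered : redA e = U.i := by
    rw [map_mul, hared, redA_liftIdem, ← idem_central hM hB, U.bi]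
  have hval : ∀ χ : IrrCharacter G, val χ 1 1 U.i = cval (χ : G → ℂ) e := fun χ => by
    rw [val_eq hM χ (pElt_one (p := p)) he
      (by rw [← MonoidAlgebra.one_def]; exact Commute.one_left e)
      (by rw [← MonoidAlgebra.one_def]; exact Commute.one_left e) U.idem_i (fixBy_one_one _)
      (by rw [hered]), sval]
    simp [cval]
  refine ⟨e, he, hered, fun χ => ?_⟩
  split_ifs with hχ
  · obtain ⟨s, hs⟩ := exists_nat_val (ε := U.i) hM χ U.idem_i
    have hlink : ∀ l, val χ 1 1 (U.j l) = (s : ℂ) := fun l => by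
      obtain ⟨h1, h2, h3, h4, h5, h6⟩ := U.xy l
      rw [← hs]
      exact val_link hM χ (pElt_one (p := p)) (U.jprim l).1.2.1 (fixBy_one_one _) U.idem_i
        (fixBy_one_one _) (fixBy_one_one _) (fixBy_one_one _) h1 h2 h3 h4 h5 h6
    have hadd : ∀ t : Finset (Fin U.n), val χ 1 1 (∑ l ∈ t, U.j l) = ∑ l ∈ t, val χ 1 1 (U.j l) ∧
        (∑ l ∈ t, U.j l) * (∑ l ∈ t, U.j l) = ∑ l ∈ t, U.j l := by
      intro t
      induction t using Finset.induction with
      | empty => simp [val_zero hM χ (pElt_one (p := p))]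
      | @insert b t hbt ih =>
        have h1 : U.j b * ∑ l ∈ t, U.j l = 0 := by
          rw [mul_sum]; exact sum_eq_zero fun l hl => U.orth b l fun h => hbt (h ▸ hl)
        have h2 : (∑ l ∈ t, U.j l) * U.j b = 0 := by
          rw [sum_mul]; exact sum_eq_zero fun l hl => U.orth l b fun h => hbt (h.symm ▸ hl)
        rw [sum_insert hbt, sum_insert hbt]
        refine ⟨?_, by rw [add_mul, mul_add, mul_add, (U.jprim b).1.2.1, ih.2, h1, h2]; abel⟩
        rw [val_add hM χ (pElt_one (p := p)) (U.jprim b).1.2.1 (fixBy_one_one _) ih.2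
          (fixBy_one_one _) h1 h2, ih.1]
    have hns : d₀ = U.n * s := by
      have h := val_idem hM hB hχ
      rw [← U.sum_j, (hadd univ).1, sum_congr rfl fun l _ => hlink l, sum_const, card_univ,
        Fintype.card_fin, nsmul_eq_mul, (irr_one χ).1, hd χ hχ] at h
      exact_mod_cast h.symm
    have hs0 : s ≠ 0 := fun h => by
      rw [h, mul_zero] at hns
      exact (irr_one χ).2.ne' ((hd χ hχ).trans hns)
    have hle := U.degree_le hM hB hreg hl hd
    have hs1 : s = 1 := le_antisymm (Nat.le_of_mul_le_mul_left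
      ((hns.symm.trans_le hle).trans_eq (mul_one _).symm) U.pos) (Nat.pos_of_ne_zero hs0)
    rw [← hval, hs, hs1, Nat.cast_one]
  · have h := FreeInertial.sval_block_eq_zero hB hχ 1 a
    rw [sval] at h
    simpa [cval, e] using h

end Units

end CfsgLib.EqualDegree
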